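import Cfsg.Agent.TwoClassSizes.Main
import Cfsg.Agent.Fusion.ClassTwo
import Cfsg.Agent.Coprime.SchurZassenhaus

/-!
Groups in which the centralisers of non-central elements are maximal subgroups.
-/

set_option autoImplicit false
set_option linter.unusedSectionVars false
set_option linter.style.haveILetI false

namespace Cfsg.Agent.CentCoatom

open Subgroup
open scoped commutatorElement
open TwoClassSizes (le_of_primePow_mem center_le_centralizer_singleton
  centralizer_le_of_mem_zpowers)

universe u

variable {G : Type u} [Group G] [Finite G]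

local notation "C[" x "]" => Subgroup.centralizer ({x} : Set _)

/-- The centralisers of non-central elements are maximal. -/
def Hyp (G : Type u) [Group G] : Prop :=
  ∀ x : G, x ∉ center G → IsCoatom C[x]

theorem mem_self (x : G) : x ∈ C[x] := mem_centralizer_singleton_iff.mpr rfl

theorem Hyp.eq_of_le (h : Hyp G) {x y : G} (hx : x ∉ center G) (hy : y ∉ center G)
    (hle : C[x] ≤ C[y]) : C[x] = C[y] := by
  rcases (h x hx).le_iff.mp hle with e | e
  · exact absurd e (h y hy).1
  · exact e.symm

theorem Hyp.eq_of_commute_coprime (h : Hyp G) {x y : G} (hxy : Commute x y)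
    (hcop : (orderOf x).Coprime (orderOf y)) (hx : x ∉ center G) (hy : y ∉ center G) :
    C[x] = C[y] := by
  have key : ∀ a b : G, Commute a b → (orderOf a).Coprime (orderOf b) → a ∈ zpowers (a * b) := by
    intro a b hab hc
    obtain ⟨m, hm1, hm2⟩ := Nat.chineseRemainder hc 1 0
    refine ⟨(m : ℤ), ?_⟩
    show (a * b) ^ (m : ℤ) = a
    rw [zpow_natCast, hab.mul_pow, pow_eq_pow_iff_modEq.mpr hm1, pow_eq_pow_iff_modEq.mpr hm2]
    simp
  have hx' : x ∈ zpowers (x * y) := key x y hxy hcop
  have hy' : y ∈ zpowers (x * y) := hxy.eq ▸ key y x hxy.symm hcop.symm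
  have hxyZ : x * y ∉ center G := fun hz => hx (zpowers_le.mpr hz hx')
  rw [← h.eq_of_le hxyZ hx (centralizer_le_of_mem_zpowers hx'),
    ← h.eq_of_le hxyZ hy (centralizer_le_of_mem_zpowers hy')]

theorem coprime_orders {a b : G} {r s i j : ℕ} (hr : r.Prime) (hs : s.Prime) (hne : r ≠ s)
    (ha : orderOf a ∣ r ^ i) (hb : orderOf b ∣ s ^ j) : (orderOf a).Coprime (orderOf b) :=
  (((Nat.coprime_primes hr hs).mpr hne).pow i j).coprime_dvd_left ha |>.coprime_dvd_right hb

theorem exists_primePow_part {x : G} (hx : x ∉ center G) :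
    ∃ p : ℕ, p.Prime ∧ ∃ z ∈ zpowers x, z ∉ center G ∧ ∃ k, orderOf z ∣ p ^ k := by
  by_contra hcon
  exact hx (le_of_primePow_mem (H := zpowers x) (K := center G)
    (fun g hg r hr hk => by
      by_contra hgZ
      exact hcon ⟨r, hr, g, hg, hgZ, hk⟩) (mem_zpowers x))

theorem Hyp.isNilpotent_centralizer (h : Hyp G) {x : G} (hx : x ∉ center G) :
    Group.IsNilpotent C[x] := by
  obtain ⟨p, hp, z, hzx, hz, hzp⟩ := exists_primePow_part hx
  haveI := Fact.mk hp
  rw [h.eq_of_le hx hz (centralizer_le_of_mem_zpowers hzx)]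
  clear hzx hx x
  obtain ⟨i, hi⟩ := hzp
  by_cases hab : IsMulCommutative C[z]
  · haveI := hab
    letI : CommGroup C[z] := { (inferInstance : Group C[z]) with
      mul_comm := fun a b => hab.is_comm.comm a b }
    infer_instance
  have hcen : ∀ e ∈ C[z], ∀ r : ℕ, r.Prime → r ≠ p → (∃ k, orderOf e ∣ r ^ k) → e ∈ center G := by
    intro e he r hr hrp ⟨j, hj⟩
    by_contra heZ
    refine hab (le_centralizer_iff_isMulCommutative.mp (le_of_primePow_mem fun g hg s hs hgs => ?_))
    obtain ⟨l, hl⟩ := hgs
    by_cases hgZ : g ∈ center G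
    · exact center_le_centralizer _ hgZ
    have hCe : C[z] = C[e] := h.eq_of_commute_coprime
      (show Commute z e from (mem_centralizer_singleton_iff.mp he).symm)
      (coprime_orders hp hr hrp.symm hi hj) hz heZ
    have hCg : C[z] = C[g] := by
      by_cases hsp : s = p
      · rw [hCe]
        exact h.eq_of_commute_coprime
          (show Commute e g from (mem_centralizer_singleton_iff.mp (hCe ▸ hg)).symm)
          (coprime_orders hr hs (hsp ▸ hrp) hj hl) heZ hgZ
      · exact h.eq_of_commute_coprime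
          (show Commute z g from (mem_centralizer_singleton_iff.mp hg).symm)
          (coprime_orders hp hs (Ne.symm hsp) hi hl) hz hgZ
    rw [mem_centralizer_iff]
    intro t ht
    exact mem_centralizer_singleton_iff.mp (hCg ▸ ht)
  have hres : pResidual p C[z] ≤ center C[z] := by
    rw [Cfsg.pResidual, closure_le]
    intro g hg
    have hmem : (g : G) ∈ center G := by
      refine le_of_primePow_mem (H := zpowers (g : G)) (K := center G) (fun e he r hr hk => ?_)
        (mem_zpowers _)
      by_cases hrp : r = p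
      · subst hrp
        obtain ⟨k, hk⟩ := hk
        have hg' : (orderOf (g : G)).Coprime r := by rwa [Subgroup.orderOf_coe]
        rw [orderOf_eq_one_iff.mp (Nat.eq_one_of_dvd_coprimes (Nat.Coprime.pow_right k hg')
          (orderOf_dvd_of_mem_zpowers he) hk)]
        exact one_mem _
      · exact hcen e (zpowers_le.mpr g.2 he) r hr hrp hk
    exact mem_center_iff.mpr fun t => Subtype.ext (mem_center_iff.mp hmem t)
  exact Group.of_quotient_center_nilpotent
    (Fusion.isPGroup_quotient_of_pResidual_le (p := p) _ hres).isNilpotent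

theorem card_quotient_prime {N : Subgroup G} [N.Normal] (hN : IsCoatom N)
    (hc : commutator G ≤ N) : (Nat.card (G ⧸ N)).Prime := by
  haveI : Nontrivial (G ⧸ N) := QuotientGroup.nontrivial_iff.mpr hN.1
  letI : CommGroup (G ⧸ N) := { (inferInstance : Group (G ⧸ N)) with
    mul_comm := fun a b => by
      obtain ⟨a, rfl⟩ := QuotientGroup.mk_surjective a
      obtain ⟨b, rfl⟩ := QuotientGroup.mk_surjective b
      refine QuotientGroup.eq.mpr (hc ?_)
      rw [show (a * b)⁻¹ * (b * a) = ⁅b⁻¹, a⁻¹⁆ by rw [commutatorElement_def]; group]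
      exact commutator_mem_commutator (mem_top _) (mem_top _) }
  haveI : IsSimpleGroup (G ⧸ N) := ⟨fun H _ => by
    have hle : N ≤ H.comap (QuotientGroup.mk' N) := by
      conv_lhs => rw [← QuotientGroup.ker_mk' N]
      exact MonoidHom.ker_le_comap _ _
    rcases hN.le_iff.mp hle with e | e
    · exact Or.inr ((comap_injective (QuotientGroup.mk'_surjective N)) (e.trans (comap_top _).symm))
    · refine Or.inl ((comap_injective (QuotientGroup.mk'_surjective N)) ?_)
      rw [e, MonoidHom.comap_bot, QuotientGroup.ker_mk']⟩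
  exact IsSimpleGroup.prime_card

theorem isSolvable_of_normal_coatom {N : Subgroup G} [N.Normal] (hN : IsCoatom N)
    (hs : Group.IsSolvable N) (hnil : ∀ a : G, a ∉ N → N ⊔ zpowers a = ⊤) : Group.IsSolvable G := by
  obtain ⟨a, ha⟩ : ∃ a, a ∉ N := by
    by_contra hcon
    push Not at hcon
    exact hN.1 (top_le_iff.mp fun g _ => hcon g)
  haveI : Group.IsSolvable (G ⧸ N) := by
    refine solvable_of_surjective (f := (QuotientGroup.mk' N).comp (zpowers a).subtype) fun y => ?_
    obtain ⟨g, rfl⟩ := QuotientGroup.mk'_surjective N y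
    have hg : g ∈ ((N ⊔ zpowers a : Subgroup G) : Set G) := (hnil a ha) ▸ mem_top g
    rw [normal_mul] at hg
    obtain ⟨u, hu, m, hm, rfl⟩ := hg
    exact ⟨⟨m, hm⟩, QuotientGroup.eq.mpr
      (by simpa [mul_assoc] using (inferInstance : N.Normal).conj_mem' u hu m)⟩
  exact solvable_of_ker_le_range N.subtype (QuotientGroup.mk' N) (by simp)

theorem Hyp.isSolvable (h : Hyp G) : Group.IsSolvable G := by
  by_cases hall : ∀ x : G, x ∈ center G
  · exact isSolvable_of_comm fun a b => (mem_center_iff.mp (hall b) a)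
  push Not at hall
  obtain ⟨x, hx⟩ := hall
  haveI hnil := h.isNilpotent_centralizer hx
  have hmax := h x hx
  by_cases hn : (C[x]).Normal
  · haveI := hn
    refine isSolvable_of_normal_coatom hmax inferInstance fun a ha => hmax.2 _ ?_
    exact lt_of_le_of_ne le_sup_left fun e => ha (e ▸ mem_sup_right (mem_zpowers a))
  by_cases hab : IsMulCommutative C[x]
  · refine Fusion.isSolvable_of_coatom_class_two hmax hnil ?_
    haveI := hab
    letI : CommGroup C[x] := { (inferInstance : Group C[x]) with
      mul_comm := fun a b => hab.is_comm.comm a b }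
    exact le_trans CommGroup.nilpotencyClass_le_one one_le_two
  -- an element of the second centre
  set Z := center C[x] with hZ
  haveI : Nontrivial (C[x] ⧸ Z) := by
    refine QuotientGroup.nontrivial_iff.mpr fun e => hab ⟨⟨fun a b => ?_⟩⟩
    have hb : b ∈ Z := by rw [e]; exact mem_top b
    exact mem_center_iff.mp hb a
  haveI : Nontrivial (center (C[x] ⧸ Z)) :=
    (nontrivial_iff_ne_bot _).mpr (Group.IsNilpotent.center_ne_bot _)
  obtain ⟨⟨c, hc⟩, hc1⟩ := exists_ne (1 : center (C[x] ⧸ Z))
  obtain ⟨y, rfl⟩ := QuotientGroup.mk_surjective c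
  have hyZ : y ∉ Z := fun hy => hc1 (Subtype.ext ((QuotientGroup.eq_one_iff _).mpr hy))
  have hyG : (y : G) ∉ center G := fun hy => hyZ (mem_center_iff.mpr fun t =>
    Subtype.ext (mem_center_iff.mp hy t))
  have hne : C[(y : G)] ≠ C[x] := fun e => hyZ (mem_center_iff.mpr fun t => Subtype.ext
    (mem_centralizer_singleton_iff.mp (show (t : G) ∈ C[(y : G)] by rw [e]; exact t.2)))
  have hxD : x ∈ C[x] ⊓ C[(y : G)] :=
    ⟨mem_self x, mem_centralizer_singleton_iff.mpr (mem_centralizer_singleton_iff.mp y.2).symm⟩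
  set D := C[x] ⊓ C[(y : G)] with hD
  -- the homomorphism `u ↦ ⁅u, y⁆`
  have hcomm : ∀ u : C[x], ⁅u, y⁆ ∈ Z := fun u => by
    rw [← QuotientGroup.eq_one_iff]
    show QuotientGroup.mk' Z ⁅u, y⁆ = 1
    rw [map_commutatorElement, commutatorElement_eq_one_iff_mul_comm]
    exact mem_center_iff.mp hc _
  let f : C[x] →* Z :=
    { toFun := fun u => ⟨⁅u, y⁆, hcomm u⟩
      map_one' := Subtype.ext (commutatorElement_one_left y)
      map_mul' := fun u v => Subtype.ext (by
        show ⁅u * v, y⁆ = ⁅u, y⁆ * ⁅v, y⁆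
        have h2 := mem_center_iff.mp (hcomm v) u
        calc ⁅u * v, y⁆ = u * ⁅v, y⁆ * (y * u⁻¹ * y⁻¹) := by
              simp only [commutatorElement_def]; group
          _ = ⁅v, y⁆ * u * (y * u⁻¹ * y⁻¹) := by rw [h2]
          _ = ⁅v, y⁆ * ⁅u, y⁆ := by simp only [commutatorElement_def]; group
          _ = ⁅u, y⁆ * ⁅v, y⁆ := (mem_center_iff.mp (hcomm v) _).symm) }
  have hker : f.ker = D.subgroupOf C[x] := by
    ext u
    rw [MonoidHom.mem_ker, mem_subgroupOf, hD, mem_inf]
    constructor
    · intro e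
      have e1 : ⁅u, y⁆ = 1 := congrArg Subtype.val e
      exact ⟨u.2, mem_centralizer_singleton_iff.mpr
        (congrArg Subtype.val (commutatorElement_eq_one_iff_mul_comm.mp e1))⟩
    · intro hu
      refine Subtype.ext ?_
      exact commutatorElement_eq_one_iff_mul_comm.mpr
        (Subtype.ext (mem_centralizer_singleton_iff.mp hu.2))
  have hDC : C[x] ≤ normalizer (D : Set G) := by
    have hn' : (D.subgroupOf C[x]).Normal := hker ▸ inferInstance
    exact (normal_subgroupOf_iff_le_normalizer inf_le_left).mp hn'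
  haveI hny := h.isNilpotent_centralizer hyG
  haveI hDn : D.Normal := by
    rcases hmax.le_iff.mp hDC with e | e
    · exact normalizer_eq_top_iff.mp e
    exfalso
    have hlt : D.subgroupOf C[(y : G)] < ⊤ := lt_top_iff_ne_top.mpr fun e' =>
      hne (h.eq_of_le hyG hx ((subgroupOf_eq_top.mp e').trans inf_le_left))
    have h2 := Group.normalizerCondition_of_isNilpotent (G := C[(y : G)]) _ hlt
    rw [← subgroupOf_normalizer_eq inf_le_right, e] at h2
    exact h2.ne (by rw [hD, inf_subgroupOf_right])
  haveI : Group.IsSolvable D := solvable_of_solvable_injective (inclusion_injective (inf_le_left : D ≤ C[x]))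
  set g := QuotientGroup.mk' D
  have hg : g.ker ≤ C[x] := by rw [QuotientGroup.ker_mk']; exact inf_le_left
  have himg : IsMulCommutative ((C[x]).map g) := by
    refine ⟨⟨?_⟩⟩
    rintro ⟨_, a, ha, rfl⟩ ⟨_, b, hb, rfl⟩
    refine Subtype.ext ?_
    show g a * g b = g b * g a
    rw [← commutatorElement_eq_one_iff_mul_comm, ← map_commutatorElement]
    have h1 : f ⁅(⟨a, ha⟩ : C[x]), ⟨b, hb⟩⁆ = 1 := by
      rw [map_commutatorElement, commutatorElement_eq_one_iff_mul_comm]
      exact Subtype.ext (mem_center_iff.mp (f ⟨b, hb⟩).2 _)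
    rw [← MonoidHom.mem_ker, hker, mem_subgroupOf] at h1
    exact (QuotientGroup.eq_one_iff _).mpr h1
  haveI : Group.IsSolvable (G ⧸ D) := by
    haveI := himg
    letI : CommGroup ((C[x]).map g) := { (inferInstance : Group ((C[x]).map g)) with
      mul_comm := fun a b => himg.is_comm.comm a b }
    exact Fusion.isSolvable_of_coatom_class_two
      (Core.isCoatom_map_of_ker_le (QuotientGroup.mk'_surjective D) hg hmax)
      (inferInstance : Group.IsNilpotent ((C[x]).map g))
      (le_trans CommGroup.nilpotencyClass_le_one one_le_two)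
  exact solvable_of_ker_le_range D.subtype (QuotientGroup.mk' D) (by simp)

/-- The structure of the group. -/
theorem Hyp.structure_quotient (h : Hyp G) (hna : ¬ IsMulCommutative G) :
    (∃ p : ℕ, p.Prime ∧ Cfsg.IsElementaryAbelian p (⊤ : Subgroup (G ⧸ center G))) ∨
    (¬ IsMulCommutative (G ⧸ center G) ∧
      (∀ H : Subgroup (G ⧸ center G), H ≠ ⊤ → IsMulCommutative ↥H) ∧
      ∃ p q a : ℕ, p.Prime ∧ q.Prime ∧ p ≠ q ∧ Nat.card (G ⧸ center G) = p ^ a * q ∧
        ∀ P : Subgroup (G ⧸ center G), Nat.card ↥P = p ^ a → P.Normal) := by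
  haveI := h.isSolvable
  set Z := center G with hZdef
  set π := QuotientGroup.mk' Z with hπ
  haveI : Nontrivial (G ⧸ Z) := QuotientGroup.nontrivial_iff.mpr fun e => hna ⟨⟨fun a b =>
    mem_center_iff.mp (e.symm ▸ mem_top b : b ∈ Z) a⟩⟩
  obtain ⟨p, hp, P0, hP0n, hP0p, hP01⟩ := Coprime.exists_normal_isPGroup (G := G ⧸ Z)
  haveI := Fact.mk hp
  haveI := hP0n
  haveI := (nontrivial_iff_ne_bot P0).mpr hP01
  haveI := hP0p.center_nontrivial
  -- a minimal normal subgroup over the centre
  obtain ⟨K, ⟨hKn, hZK, hKc, hKp⟩, hKmin⟩ := wellFounded_lt.has_min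
    {K : Subgroup G | K.Normal ∧ Z < K ∧ ⁅K, K⁆ ≤ Z ∧ ∀ k ∈ K, ∃ j : ℕ, k ^ p ^ j ∈ Z}
    ⟨((center P0).map P0.subtype).comap π, Normal.comap inferInstance _, by
      refine lt_of_le_of_ne (fun z hz => mem_comap.mpr ?_) fun e => ?_
      · rw [hπ, QuotientGroup.mk'_apply, (QuotientGroup.eq_one_iff z).mpr hz]
        exact one_mem _
      · obtain ⟨⟨c, hc⟩, hc1⟩ := exists_ne (1 : center P0)
        obtain ⟨g, hg⟩ := QuotientGroup.mk'_surjective Z (c : G ⧸ Z)
        have hgK : g ∈ Z := e.ge (mem_comap.mpr ⟨c, hc, hg.symm⟩)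
        exact hc1 (Subtype.ext (Subtype.ext (hg.symm.trans ((QuotientGroup.eq_one_iff g).mpr hgK)))),
     by
      rw [commutator_le]
      intro a ha b hb
      obtain ⟨c, hc, hca⟩ := ha
      obtain ⟨d, hd, hdb⟩ := hb
      rw [← QuotientGroup.eq_one_iff]
      show π ⁅a, b⁆ = 1
      rw [map_commutatorElement, commutatorElement_eq_one_iff_mul_comm, ← hca, ← hdb]
      exact congrArg Subtype.val (mem_center_iff.mp hd c),
     fun k hk => by
      obtain ⟨c, -, hck⟩ := hk
      obtain ⟨j, hj⟩ := hP0p c
      refine ⟨j, (QuotientGroup.eq_one_iff _).mp ?_⟩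
      show π (k ^ p ^ j) = 1
      rw [map_pow, ← hck]
      exact congrArg Subtype.val hj⟩
  haveI := hKn
  have hmin : ∀ L : Subgroup G, L.Normal → Z ≤ L → L ≤ K → L = Z ∨ L = K := by
    intro L hLn hZL hLK
    rcases eq_or_lt_of_le hZL with e | hlt
    · exact Or.inl e.symm
    rcases eq_or_lt_of_le hLK with e | hlt'
    · exact Or.inr e
    exact absurd hlt' (hKmin L ⟨hLn, hlt, (commutator_mono hLK hLK).trans hKc,
      fun k hk => hKp k (hLK hk)⟩)
  -- elements not centralising `K`
  have hout : ∀ m : G, m ∉ centralizer (K : Set G) →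
      C[m] ⊔ K = ⊤ ∧ C[m] ⊓ K = Z := by
    intro m hm
    have hmZ : m ∉ Z := fun hz => hm (center_le_centralizer _ hz)
    have hKm : ¬ K ≤ C[m] := fun hle => hm (mem_centralizer_iff.mpr fun k hk =>
      mem_centralizer_singleton_iff.mp (hle hk))
    have htop : C[m] ⊔ K = ⊤ := (h m hmZ).2 _ (lt_of_le_of_ne le_sup_left fun e =>
      hKm (e ▸ le_sup_right))
    refine ⟨htop, ?_⟩
    have hn : (C[m] ⊓ K).Normal := by
      rw [← normalizer_eq_top_iff, eq_top_iff, ← htop]
      refine sup_le ?_ fun u hu => mem_normalizer_iff_map_conj_eq.mpr ?_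
      · exact le_trans (le_inf Subgroup.le_normalizer le_normalizer_of_normal)
          inf_normalizer_le_normalizer_inf
      · refine (eq_of_le_of_card_ge ?_ (card_map_of_injective (MulAut.conj u).injective).ge)
        rintro _ ⟨b, ⟨hb1, hb2⟩, rfl⟩
        have hc : ⁅u, b⁆ ∈ Z := hKc (commutator_mem_commutator hu hb2)
        show u * b * u⁻¹ ∈ C[m] ⊓ K
        rw [show u * b * u⁻¹ = ⁅u, b⁆ * b by rw [commutatorElement_def]; group]
        exact ⟨mul_mem (center_le_centralizer_singleton m hc) hb1, mul_mem (hZK.le hc) hb2⟩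
    rcases hmin _ hn (le_inf (center_le_centralizer_singleton m) hZK.le) inf_le_right with e | e
    · exact e
    · exact absurd (e ▸ inf_le_left) hKm
  -- `K` is abelian
  have hKab : K ≤ centralizer (K : Set G) := by
    intro k hk
    by_contra hkc
    have hmem : k ∈ C[k] ⊓ K := ⟨mem_self k, hk⟩
    rw [(hout k hkc).2] at hmem
    exact hkc (center_le_centralizer _ hmem)
  set N := centralizer (K : Set G) with hNdef
  have hNtop : N ≠ ⊤ := by
    intro e
    refine hZK.not_ge fun k hk => mem_center_iff.mpr fun g => ?_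
    exact (mem_centralizer_iff.mp (e ▸ mem_top g : g ∈ N) k hk).symm
  obtain ⟨m₀, hm₀⟩ : ∃ m₀, m₀ ∉ N := by
    by_contra hcon
    push Not at hcon
    exact hNtop (top_le_iff.mp fun g _ => hcon g)
  -- `G / K` is abelian
  have hGK : commutator G ≤ K := by
    have hcen : ∀ m, m ∉ N → (m : G ⧸ K) ∈ center (G ⧸ K) := by
      intro m hm
      rw [mem_center_iff]
      intro t
      obtain ⟨g, rfl⟩ := QuotientGroup.mk_surjective t
      have hg : g ∈ ((C[m] ⊔ K : Subgroup G) : Set G) := (hout m hm).1 ▸ mem_top g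
      rw [mul_normal] at hg
      obtain ⟨c, hc, k, hk, rfl⟩ := hg
      rw [QuotientGroup.mk_mul, (QuotientGroup.eq_one_iff k).mpr hk, mul_one,
        ← QuotientGroup.mk_mul, ← QuotientGroup.mk_mul, mem_centralizer_singleton_iff.mp hc]
    have hall : ∀ m : G, (m : G ⧸ K) ∈ center (G ⧸ K) := by
      intro m
      by_cases hm : m ∈ N
      · have h1 : m * m₀ ∉ N := fun h' => hm₀ (by simpa using mul_mem (inv_mem hm) h')
        have := mul_mem (hcen _ h1) (inv_mem (hcen _ hm₀))
        rwa [QuotientGroup.mk_mul, mul_inv_cancel_right] at this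
      · exact hcen m hm
    rw [_root_.commutator_def, commutator_le]
    intro a _ b _
    rw [← QuotientGroup.eq_one_iff]
    show QuotientGroup.mk' K ⁅a, b⁆ = 1
    rw [map_commutatorElement, commutatorElement_eq_one_iff_mul_comm]
    exact mem_center_iff.mp (hall b) _
  obtain ⟨k₀, hk₀K, hk₀Z, hk₀p⟩ : ∃ k₀ ∈ K, k₀ ∉ Z ∧ ∃ j, orderOf k₀ ∣ p ^ j := by
    by_contra hcon
    push Not at hcon
    refine hZK.not_ge (le_of_primePow_mem fun e he r hr ⟨i, hi⟩ => ?_)
    by_cases hrp : r = p
    · subst hrp
      by_contra heZ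
      exact hcon e he heZ i hi
    obtain ⟨j, hj⟩ := hKp e he
    have hcop : (p ^ j).Coprime (orderOf e) :=
      (((Nat.coprime_primes hp hr).mpr (Ne.symm hrp)).pow j i).coprime_dvd_right hi
    obtain ⟨l, hl⟩ := exists_pow_eq_self_of_coprime hcop
    rw [← hl]
    exact pow_mem hj l
  have hCK : ∀ k ∈ K, k ∉ Z → C[k] = N := by
    intro k hk hkZ
    refine le_antisymm ?_ fun g hg =>
      mem_centralizer_singleton_iff.mpr (mem_centralizer_iff.mp hg k hk).symm
    have hKk : K ≤ C[k] := fun g hg =>
      mem_centralizer_singleton_iff.mpr (mem_centralizer_iff.mp (hKab hk) g hg)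
    haveI : (C[k]).Normal := by
      refine ⟨fun a ha g => ?_⟩
      rw [show g * a * g⁻¹ = ⁅g, a⁆ * a by rw [commutatorElement_def]; group]
      exact mul_mem (hKk (hGK (commutator_mem_commutator (mem_top g) (mem_top a)))) ha
    haveI : (K ⊓ centralizer (C[k] : Set G)).Normal := inferInstance
    rcases hmin (K ⊓ centralizer (C[k] : Set G)) inferInstance
      (le_inf hZK.le (center_le_centralizer _)) inf_le_left with e | e
    · exfalso
      refine hkZ (e ▸ ⟨hk, mem_centralizer_iff.mpr fun g hg => ?_⟩)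
      exact mem_centralizer_singleton_iff.mp hg
    · exact le_centralizer_iff.mp (e.ge.trans inf_le_right)
  have hN : IsCoatom N := hCK k₀ hk₀K hk₀Z ▸ h k₀ hk₀Z
  have hKN : K ≤ N := hKab
  haveI : N.Normal := inferInstance
  set q := Nat.card (G ⧸ N) with hqdef
  have hq : q.Prime := card_quotient_prime hN (hGK.trans hKN)
  -- prime power elements outside `N`
  have hqelt : ∀ L : Subgroup G, ¬ L ≤ N → ∃ y ∈ L, y ∉ N ∧ ∃ i, orderOf y ∣ q ^ i := by
    intro L hL
    by_contra hcon
    push Not at hcon
    refine hL (le_of_primePow_mem fun e he r hr ⟨i, hi⟩ => ?_)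
    by_contra heN
    by_cases hrq : r = q
    · subst hrq; exact hcon e he heN i hi
    refine heN ((QuotientGroup.eq_one_iff e).mp (orderOf_eq_one_iff.mp
      (Nat.eq_one_of_dvd_coprimes (((Nat.coprime_primes hr hq).mpr hrq).pow i 1)
        ((orderOf_map_dvd (QuotientGroup.mk' N) e).trans hi) ?_)))
    rw [pow_one, hqdef]
    exact orderOf_dvd_natCard _
  have hNtop' : ¬ (⊤ : Subgroup G) ≤ N := fun hle => hNtop (top_le_iff.mp hle)
  obtain ⟨y, -, hyN, iy, hiy⟩ := hqelt ⊤ hNtop'
  have hyZ : y ∉ Z := fun hz => hyN (center_le_centralizer _ hz)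
  obtain ⟨jk, hjk⟩ := hk₀p
  by_cases hpq : p = q
  · -- the `p`-group case
    left
    refine ⟨p, hp, ?_⟩
    have hrZ : ∀ n : G, ∀ r : ℕ, r.Prime → r ≠ p → (∃ i, orderOf n ∣ r ^ i) → n ∈ Z := by
      intro n r hr hrp ⟨i, hi⟩
      by_contra hnZ
      have hnN : n ∈ N := (QuotientGroup.eq_one_iff n).mp (orderOf_eq_one_iff.mp
        (Nat.eq_one_of_dvd_coprimes (((Nat.coprime_primes hr hp).mpr hrp).pow i 1)
          ((orderOf_map_dvd (QuotientGroup.mk' N) n).trans hi)
          (by rw [pow_one, hpq]; exact orderOf_dvd_natCard _)))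
      have hCn : C[n] = N := by
        rw [← hCK k₀ hk₀K hk₀Z]
        exact h.eq_of_commute_coprime
          (show Commute n k₀ from (mem_centralizer_iff.mp hnN k₀ hk₀K).symm)
          (coprime_orders hr hp hrp hi hjk) hnZ hk₀Z
      set c := n⁻¹ * (y * n * y⁻¹) with hcdef
      have hcK : c ∈ K := by
        rw [hcdef, show n⁻¹ * (y * n * y⁻¹) = ⁅n⁻¹, y⁆ by rw [commutatorElement_def]; group]
        exact hGK (commutator_mem_commutator (mem_top _) (mem_top _))
      have hcn : Commute n⁻¹ (y * n * y⁻¹) := Commute.inv_left <| Eq.symm <|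
        mem_centralizer_singleton_iff.mp
          (hCn ▸ (inferInstance : N.Normal).conj_mem n hnN y : y * n * y⁻¹ ∈ C[n])
      have hcr : orderOf c ∣ r ^ i := by
        refine orderOf_dvd_of_pow_eq_one ?_
        rw [hcdef, hcn.mul_pow, inv_pow, orderOf_dvd_iff_pow_eq_one.mp hi, conj_pow,
          orderOf_dvd_iff_pow_eq_one.mp hi]
        simp
      have hcZ : c ∈ Z := by
        obtain ⟨j, hj⟩ := hKp c hcK
        obtain ⟨l, hl⟩ := exists_pow_eq_self_of_coprime
          ((((Nat.coprime_primes hp hr).mpr (Ne.symm hrp)).pow j i).coprime_dvd_right hcr)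
        rw [← hl]
        exact pow_mem hj l
      have hit : ∀ t : ℕ, y ^ t * n * (y ^ t)⁻¹ = n * c ^ t := by
        intro t
        induction t with
        | zero => simp
        | succ t ih =>
          calc y ^ (t + 1) * n * (y ^ (t + 1))⁻¹ = y * (y ^ t * n * (y ^ t)⁻¹) * y⁻¹ := by
                rw [pow_succ']; group
            _ = y * (n * c ^ t) * y⁻¹ := by rw [ih]
            _ = y * n * (c ^ t * y⁻¹) := by group
            _ = y * n * (y⁻¹ * c ^ t) := by rw [mem_center_iff.mp (pow_mem hcZ t) y⁻¹]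
            _ = n * c * c ^ t := by rw [hcdef]; group
            _ = n * c ^ (t + 1) := by rw [pow_succ']; group
      have h1 := hit (q ^ iy)
      rw [orderOf_dvd_iff_pow_eq_one.mp hiy, one_mul, inv_one, mul_one, eq_comm, mul_eq_left] at h1
      have hc1 : c = 1 := orderOf_eq_one_iff.mp (Nat.eq_one_of_dvd_coprimes
        (((Nat.coprime_primes hr hp).mpr hrp).pow i iy) hcr
        (hpq ▸ orderOf_dvd_of_pow_eq_one h1))
      refine hyN (hCn ▸ mem_centralizer_singleton_iff.mpr ?_)
      rw [hcdef, inv_mul_eq_one] at hc1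
      calc y * n = y * n * y⁻¹ * y := by group
        _ = n * y := by rw [← hc1]
    have hres : pResidual p G ≤ Z := by
      rw [Cfsg.pResidual, closure_le]
      intro g hg
      refine le_of_primePow_mem (H := zpowers g) (K := Z) (fun e he r hr hk => ?_) (mem_zpowers g)
      by_cases hrp : r = p
      · subst hrp
        obtain ⟨k, hk⟩ := hk
        rw [orderOf_eq_one_iff.mp (Nat.eq_one_of_dvd_coprimes (Nat.Coprime.pow_right k hg)
          (orderOf_dvd_of_mem_zpowers he) hk)]
        exact one_mem _
      · exact hrZ e r hr hrp hk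
    have hpg : IsPGroup p (G ⧸ Z) := Fusion.isPGroup_quotient_of_pResidual_le (p := p) _ hres
    haveI : Group.IsNilpotent G := Group.of_quotient_center_nilpotent hpg.isNilpotent
    have hkey : ∀ a b x : G, x ∉ Z → a ^ p ∈ C[x] ∧ ⁅a, b⁆ ∈ C[x] := by
      intro a b x hxZ
      haveI hCn : (C[x]).Normal :=
        (Group.normalizerCondition_of_isNilpotent (G := G)).normal_of_coatom _ (h x hxZ)
      have hKC : commutator G ≤ C[x] := by
        haveI : Nontrivial (G ⧸ C[x]) := QuotientGroup.nontrivial_iff.mpr (h x hxZ).1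
        haveI : IsSimpleGroup (G ⧸ C[x]) := ⟨fun H _ => by
          have hle : C[x] ≤ H.comap (QuotientGroup.mk' C[x]) := by
            conv_lhs => rw [← QuotientGroup.ker_mk' C[x]]
            exact MonoidHom.ker_le_comap _ _
          rcases (h x hxZ).le_iff.mp hle with e | e
          · exact Or.inr ((comap_injective (QuotientGroup.mk'_surjective _))
              (e.trans (comap_top _).symm))
          · refine Or.inl ((comap_injective (QuotientGroup.mk'_surjective _)) ?_)
            rw [e, MonoidHom.comap_bot, QuotientGroup.ker_mk']⟩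
        haveI : Group.IsSolvable (G ⧸ C[x]) := inferInstance
        rw [_root_.commutator_def, commutator_le]
        intro a _ b _
        rw [← QuotientGroup.eq_one_iff]
        show QuotientGroup.mk' C[x] ⁅a, b⁆ = 1
        rw [map_commutatorElement, commutatorElement_eq_one_iff_mul_comm]
        exact IsSimpleGroup.comm_iff_isSolvable.mpr inferInstance _ _
      have hpr : (Nat.card (G ⧸ C[x])).Prime := card_quotient_prime (h x hxZ) hKC
      refine ⟨?_, hKC (commutator_mem_commutator (mem_top a) (mem_top b))⟩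
      haveI := Fact.mk hpr
      have hZC : Z ≤ C[x] := center_le_centralizer_singleton x
      have hpC : IsPGroup p (G ⧸ C[x]) :=
        hpg.of_surjective (QuotientGroup.map Z C[x] (MonoidHom.id G) hZC)
          fun t => by
            obtain ⟨g, rfl⟩ := QuotientGroup.mk_surjective t
            exact ⟨g, rfl⟩
      obtain ⟨i, hi⟩ := IsPGroup.iff_card.mp hpC
      rw [← QuotientGroup.eq_one_iff]
      show QuotientGroup.mk' C[x] (a ^ p) = 1
      rw [map_pow, ← (Nat.prime_eq_prime_of_dvd_pow hpr hp (show Nat.card (G ⧸ C[x]) ∣ p ^ i by rw [hi]))]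
      exact pow_card_eq_one'
    have hcenter : ∀ g : G, (∀ x, x ∉ Z → g ∈ C[x]) → g ∈ Z := fun g hg => mem_center_iff.mpr fun x => by
      by_cases hxZ : x ∈ Z
      · exact (mem_center_iff.mp hxZ g).symm
      · exact (mem_centralizer_singleton_iff.mp (hg x hxZ)).symm
    refine ⟨⟨⟨fun a b => Subtype.ext ?_⟩⟩, fun a _ => ?_⟩
    · obtain ⟨a', ha'⟩ := QuotientGroup.mk_surjective (a : G ⧸ Z)
      obtain ⟨b', hb'⟩ := QuotientGroup.mk_surjective (b : G ⧸ Z)
      show (a : G ⧸ Z) * b = b * a
      rw [← ha', ← hb', ← commutatorElement_eq_one_iff_mul_comm]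
      show ⁅π a', π b'⁆ = 1
      rw [← map_commutatorElement]
      exact (QuotientGroup.eq_one_iff _).mpr (hcenter _ fun x hx => (hkey a' b' x hx).2)
    · obtain ⟨a', rfl⟩ := QuotientGroup.mk_surjective a
      rw [← QuotientGroup.mk_pow, QuotientGroup.eq_one_iff]
      exact hcenter _ fun x hx => (hkey a' a' x hx).1
  · right
    have hNn : ∀ n ∈ N, n ∉ Z → C[n] = N := by
      have hpow : ∀ n ∈ N, ∀ s : ℕ, s.Prime → (∃ i, orderOf n ∣ s ^ i) → n ∈ centralizer (N : Set G) := by
        intro n hn s hs ⟨i, hi⟩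
        by_cases hnZ : n ∈ Z
        · exact center_le_centralizer _ hnZ
        suffices e : C[n] = N by
          rw [mem_centralizer_iff]
          intro t ht
          exact mem_centralizer_singleton_iff.mp (e ▸ ht)
        by_cases hsp : s = p
        · subst hsp
          by_contra hne
          have hKn : K ≤ C[n] := fun k hk =>
            mem_centralizer_singleton_iff.mpr (mem_centralizer_iff.mp hn k hk)
          have hnot : ¬ C[n] ≤ N := fun hle => by
            rcases (h n hnZ).le_iff.mp hle with e | e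
            · exact hNtop e
            · exact hne e.symm
          obtain ⟨y', hy', hy'N, i', hi'⟩ := hqelt _ hnot
          have hy'Z : y' ∉ Z := fun hz => hy'N (center_le_centralizer _ hz)
          have e := h.eq_of_commute_coprime
            (show Commute n y' from (mem_centralizer_singleton_iff.mp hy').symm)
            (coprime_orders hs hq hpq hi hi') hnZ hy'Z
          refine hy'N (mem_centralizer_iff.mpr fun k hk => ?_)
          exact mem_centralizer_singleton_iff.mp (e ▸ hKn hk)
        · rw [← hCK k₀ hk₀K hk₀Z]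
          exact h.eq_of_commute_coprime
            (show Commute n k₀ from (mem_centralizer_iff.mp hn k₀ hk₀K).symm)
            (coprime_orders hs hp hsp hi hjk) hnZ hk₀Z
      intro n hn hnZ
      refine ((hN.le_iff.mp fun t ht => ?_).resolve_left (h n hnZ).1)
      exact mem_centralizer_singleton_iff.mpr
        (mem_centralizer_iff.mp (le_of_primePow_mem hpow hn) t ht)
    have hNK : N = K := by
      refine le_antisymm (fun n hn => ?_) hKN
      have hn' : n ∈ ((C[y] ⊔ K : Subgroup G) : Set G) := (hout y hyN).1 ▸ mem_top n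
      rw [mul_normal] at hn'
      obtain ⟨c, hc, k, hk, rfl⟩ := hn'
      have hcN : c ∈ N := by simpa using mul_mem hn (inv_mem (hKN hk))
      have hcZ : c ∈ Z := by
        by_contra hcZ
        refine hyN (hNn c hcN hcZ ▸ mem_centralizer_singleton_iff.mpr ?_)
        exact (mem_centralizer_singleton_iff.mp hc).symm
      exact mul_mem (hZK.le hcZ) hk
    set Kb := K.map π with hKb
    have hcomapKb : Kb.comap π = K := comap_map_eq_self (by rw [hπ, QuotientGroup.ker_mk']; exact hZK.le)
    have hKbp : IsPGroup p Kb := by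
      rintro ⟨_, k, hk, rfl⟩
      obtain ⟨j, hj⟩ := hKp k hk
      refine ⟨j, Subtype.ext ?_⟩
      show π k ^ p ^ j = 1
      rw [← map_pow]
      exact (QuotientGroup.eq_one_iff _).mpr hj
    obtain ⟨a, ha⟩ := IsPGroup.iff_card.mp hKbp
    haveI : Kb.Normal := Normal.map inferInstance π (QuotientGroup.mk'_surjective Z)
    have hidx : Kb.index = q := by
      rw [← index_comap_of_surjective (f := π) _ (QuotientGroup.mk'_surjective Z), hcomapKb,
        index_eq_card, hqdef, hNK]
    refine ⟨?_, ?_, p, q, a, hp, hq, hpq, ?_, ?_⟩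
    · intro hc
      set c := ⁅y, k₀⁆ with hcdef
      have hcZ : c ∈ Z := by
        rw [← QuotientGroup.eq_one_iff]
        show π c = 1
        rw [hcdef, map_commutatorElement, commutatorElement_eq_one_iff_mul_comm]
        exact hc.is_comm.comm _ _
      have hit : ∀ t : ℕ, y ^ t * k₀ * (y ^ t)⁻¹ = c ^ t * k₀ := by
        intro t
        induction t with
        | zero => simp
        | succ t ih =>
          calc y ^ (t + 1) * k₀ * (y ^ (t + 1))⁻¹ = y * (y ^ t * k₀ * (y ^ t)⁻¹) * y⁻¹ := by
                rw [pow_succ']; group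
            _ = y * c ^ t * k₀ * y⁻¹ := by rw [ih]; group
            _ = c ^ t * y * k₀ * y⁻¹ := by rw [mem_center_iff.mp (pow_mem hcZ t) y]
            _ = c ^ t * (y * k₀ * y⁻¹) := by group
            _ = c ^ t * (c * k₀) := by rw [hcdef, commutatorElement_def]; group
            _ = c ^ (t + 1) * k₀ := by rw [pow_succ, mul_assoc]
      have h1 := hit (q ^ iy)
      rw [orderOf_dvd_iff_pow_eq_one.mp hiy, one_mul, inv_one, mul_one, eq_comm, mul_eq_right] at h1
      have hky : y * k₀ * y⁻¹ = c * k₀ := by rw [hcdef, commutatorElement_def]; group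
      have h2 : c ^ p ^ jk = 1 := by
        have h3 : (y * k₀ * y⁻¹) ^ p ^ jk = (c * k₀) ^ p ^ jk := by rw [hky]
        rw [conj_pow, (show Commute c k₀ from (mem_center_iff.mp hcZ k₀).symm).mul_pow,
          orderOf_dvd_iff_pow_eq_one.mp hjk, mul_one, mul_inv_cancel, mul_one] at h3
        exact h3.symm
      have hc1 : c = 1 := orderOf_eq_one_iff.mp (Nat.eq_one_of_dvd_coprimes
        (((Nat.coprime_primes hp hq).mpr hpq).pow jk iy)
        (orderOf_dvd_of_pow_eq_one h2) (orderOf_dvd_of_pow_eq_one h1))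
      rw [hcdef, commutatorElement_eq_one_iff_mul_comm] at hc1
      exact hyN (hCK k₀ hk₀K hk₀Z ▸ mem_centralizer_singleton_iff.mpr hc1)
    · intro H hH
      set H' := H.comap π
      have hH' : H' ≠ ⊤ := fun e => hH (by
        rw [← map_comap_eq_self_of_surjective (f := π) (QuotientGroup.mk'_surjective Z) H]
        show H'.map π = ⊤
        rw [e, map_top_of_surjective _ (QuotientGroup.mk'_surjective Z)])
      have hZH : Z ≤ H' := fun z hz => mem_comap.mpr (by
        rw [hπ, QuotientGroup.mk'_apply, (QuotientGroup.eq_one_iff z).mpr hz]; exact one_mem _)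
      have hcomm : ∀ s ∈ H', ∀ t ∈ H', ⁅s, t⁆ ∈ Z := by
        by_cases hle : H' ≤ K
        · exact fun s hs t ht => hKc (commutator_mem_commutator (hle hs) (hle ht))
        obtain ⟨g, hgH, hgK⟩ := SetLike.not_le_iff_exists.mp hle
        have hgen : K ⊔ zpowers g = ⊤ := (hNK ▸ hN).2 _
          (lt_of_le_of_ne le_sup_left fun e => hgK (e ▸ mem_sup_right (mem_zpowers g)))
        haveI : (H' ⊓ K).Normal := by
          rw [← normalizer_eq_top_iff, eq_top_iff, ← hgen]
          refine sup_le (fun u hu => mem_normalizer_iff.mpr fun b => ?_) (zpowers_le.mpr ?_)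
          · constructor
            · rintro ⟨hb1, hb2⟩
              have hc := mem_centralizer_iff.mp (hKab hb2) u hu
              rw [hc, mul_inv_cancel_right]
              exact ⟨hb1, hb2⟩
            · rintro ⟨hb1, hb2⟩
              have hb2' : b ∈ K := by
                have := (inferInstance : K.Normal).conj_mem _ hb2 u⁻¹
                simpa [mul_assoc] using this
              have hc := mem_centralizer_iff.mp (hKab hb2') u hu
              rw [hc, mul_inv_cancel_right] at hb1
              exact ⟨hb1, hb2'⟩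
          · exact inf_normalizer_le_normalizer_inf
              ⟨Subgroup.le_normalizer hgH, le_normalizer_of_normal (mem_top g)⟩
        rcases hmin (H' ⊓ K) inferInstance (le_inf hZH hZK.le) inf_le_right with e | e
        · intro s hs t ht
          rw [← e]
          exact ⟨Subgroup.commutator_le_self H' (commutator_mem_commutator hs ht),
            hGK (commutator_mem_commutator (mem_top s) (mem_top t))⟩
        · exact absurd (top_le_iff.mp (hgen ▸ sup_le (e ▸ inf_le_left) (zpowers_le.mpr hgH))) hH'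
      refine ⟨⟨fun s t => Subtype.ext ?_⟩⟩
      obtain ⟨s', hs'⟩ := QuotientGroup.mk_surjective (s : G ⧸ Z)
      obtain ⟨t', ht'⟩ := QuotientGroup.mk_surjective (t : G ⧸ Z)
      show (s : G ⧸ Z) * t = t * s
      rw [← hs', ← ht', ← commutatorElement_eq_one_iff_mul_comm]
      show ⁅π s', π t'⁆ = 1
      rw [← map_commutatorElement]
      exact (QuotientGroup.eq_one_iff _).mpr
        (hcomm s' (mem_comap.mpr (show π s' ∈ H by rw [show π s' = s from hs']; exact s.2)) t' (mem_comap.mpr (show π t' ∈ H by rw [show π t' = t from ht']; exact t.2)))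
    · rw [← Kb.card_mul_index, ha, hidx]
    · intro P hP
      have hle : P ≤ Kb := by
        intro g hg
        rw [← QuotientGroup.eq_one_iff, ← orderOf_eq_one_iff]
        refine Nat.eq_one_of_dvd_coprimes (((Nat.coprime_primes hp hq).mpr hpq).pow a 1)
          ((orderOf_map_dvd (QuotientGroup.mk' Kb) g).trans ?_) ?_
        · rw [← hP]; exact orderOf_dvd_natCard P hg
        · rw [pow_one, ← hidx, index_eq_card]; exact orderOf_dvd_natCard _
      rw [eq_of_le_of_card_ge hle (by rw [hP, ha])]
      infer_instance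

end Cfsg.Agent.CentCoatom
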